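import Cfsg.Agent.Lib.AltAut.Main

/-!
Automorphisms of an alternating group which preserve three-cycles come from the symmetric group
(this also covers degree six). The argument is the one of `AltAut.conjNormal_surjective`.
-/

set_option autoImplicit false

namespace Cfsg.Agent.Lib.AltAut

open Equiv Equiv.Perm

variable {α : Type*} [Fintype α] [DecidableEq α]

theorem exists_conjNormal_eq (h4 : 4 ≤ Fintype.card α) (φ : MulAut (alternatingGroup α))
    (h3 : ∀ a : alternatingGroup α, (a : Perm α).IsThreeCycle → ((φ a : alternatingGroup α) : Perm α).IsThreeCycle) :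
    ∃ σ : Perm α, (MulAut.conjNormal σ : MulAut (alternatingGroup α)) = φ := by
  obtain ⟨p0, p1, h01⟩ := Fintype.exists_pair_of_one_lt_card (α := α) (by omega)
  obtain ⟨i0, i1, hi0, hi1, hi01⟩ :
      ∃ i j, i ∉ ({p0, p1} : Finset α) ∧ j ∉ ({p0, p1} : Finset α) ∧ i ≠ j := by
    have : 1 < ({p0, p1} : Finset α)ᶜ.card := by
      rw [Finset.card_compl]
      have := Finset.card_le_two (a := p0) (b := p1)
      omega
    obtain ⟨b, hb, c, hc, h⟩ := Finset.one_lt_card.mp this
    exact ⟨b, c, Finset.mem_compl.mp hb, Finset.mem_compl.mp hc, h⟩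
  simp only [Finset.mem_insert, Finset.mem_singleton, not_or] at hi0 hi1
  let P : α → Prop := fun i => i ≠ p0 ∧ i ≠ p1
  let x : {i // P i} → alternatingGroup α :=
    fun i => ⟨cyc p0 p1 i.1, cyc_mem h01 i.2.1.symm i.2.2.symm⟩
  let X : {i // P i} → Perm α := fun i => ((φ (x i) : alternatingGroup α) : Perm α)
  have hX3 : ∀ i, (X i).IsThreeCycle := fun i =>
    h3 _ (isThreeCycle_cyc h01 i.2.1.symm i.2.2.symm)
  have hXinj : Function.Injective X := by
    intro i j h
    have h1 := congrArg Subtype.val (φ.injective (Subtype.ext h))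
    have h2 := Perm.ext_iff.mp h1 p1
    simp only [x] at h2
    rw [cyc_apply h01 i.2.1.symm i.2.2.symm, cyc_apply h01 j.2.1.symm j.2.2.symm] at h2
    simp only [h01.symm, if_false, if_true] at h2
    exact Subtype.ext h2
  have hprod : ∀ i j, i ≠ j → (X i * X j) ^ 2 = 1 ∧ X i * X j ≠ 1 := by
    intro i j hij
    have hij' : i.1 ≠ j.1 := fun e => hij (Subtype.ext e)
    have e1 : (cyc p0 p1 i.1 * cyc p0 p1 j.1) ^ 2 = 1 := by
      ext z
      rw [pow_two, Perm.mul_apply, Perm.mul_apply, Perm.mul_apply, Perm.one_apply]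
      simp only [cyc_apply h01 i.2.1.symm i.2.2.symm, cyc_apply h01 j.2.1.symm j.2.2.symm]
      have := i.2.1
      have := i.2.2
      have := j.2.1
      have := j.2.2
      grind
    have e2 : cyc p0 p1 i.1 * cyc p0 p1 j.1 ≠ 1 := by
      intro e
      have := Perm.ext_iff.mp e p0
      rw [Perm.mul_apply, Perm.one_apply, cyc_apply h01 i.2.1.symm i.2.2.symm,
        cyc_apply h01 j.2.1.symm j.2.2.symm] at this
      simp only [if_true, h01.symm, if_false] at this
      exact i.2.1 this
    have hm : X i * X j = ((φ (x i * x j) : alternatingGroup α) : Perm α) := by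
      rw [map_mul]; rfl
    constructor
    · rw [hm, ← Subgroup.coe_pow, ← map_pow, show (x i * x j) ^ 2 = 1 from Subtype.ext e1, map_one]
      rfl
    · rw [hm]
      intro e
      apply e2
      exact congrArg Subtype.val ((map_eq_one_iff φ φ.injective).mp (Subtype.ext e) : x i * x j = 1)
  have hcommon : ∀ i j, i ≠ j → ∃ u, X i u ≠ u ∧ X i u = X j u := by
    intro i j hij
    obtain ⟨u, h1, h2, -⟩ := exists_unique_common (hX3 i) (hX3 j) (hprod i j hij).1 (hprod i j hij).2
    exact ⟨u, h1, h2⟩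
  let j0 : {i // P i} := ⟨i0, hi0.1, hi0.2⟩
  let j1 : {i // P i} := ⟨i1, hi1.1, hi1.2⟩
  have hj : j0 ≠ j1 := fun e => hi01 (congrArg Subtype.val e)
  obtain ⟨u, hu, hu1⟩ := hcommon j0 j1 hj
  have hedge : ∀ i, X i u = X j0 u := by
    intro i
    by_cases h0 : i = j0
    · rw [h0]
    by_cases h1 : i = j1
    · rw [h1, hu1]
    obtain ⟨s, hs, hs'⟩ := hcommon j0 i (Ne.symm h0)
    obtain ⟨t, ht, ht'⟩ := hcommon j1 i (Ne.symm h1)
    exact common_edge (hX3 j0) (hX3 j1) (hX3 i) hu hu1.symm (hXinj.ne hj)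
      (hXinj.ne (Ne.symm h0)) (hXinj.ne (Ne.symm h1)) hs hs'.symm ht ht'.symm
  obtain ⟨v, hv⟩ : ∃ v, v = X j0 u := ⟨_, rfl⟩
  have hcyc : ∀ i, u ≠ X i v ∧ v ≠ X i v ∧ X i = cyc u v (X i v) := by
    intro i
    obtain ⟨a, b, c⟩ := eq_cyc (hX3 i) (x := u) (by rw [hedge i]; exact hu)
    rw [hedge i, ← hv] at a b c
    exact ⟨a, b, c⟩
  let f : α → α := fun i => if h : P i then X ⟨i, h⟩ v else if i = p0 then u else v
  have hf0 : f p0 = u := by simp [f, P]
  have hf1 : f p1 = v := by simp [f, P, h01.symm]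
  have hfi : ∀ i (h : P i), f i = X ⟨i, h⟩ v := fun i h => by simp only [f, dif_pos h]
  have huv : u ≠ v := fun e => hu (by rw [← hv]; exact e.symm)
  have hinj : Function.Injective f := by
    intro a b hab
    by_cases ha : P a <;> by_cases hb : P b
    · rw [hfi a ha, hfi b hb] at hab
      have ea := (hcyc ⟨a, ha⟩).2.2
      rw [hab] at ea
      exact congrArg Subtype.val (hXinj (ea.trans (hcyc ⟨b, hb⟩).2.2.symm))
    all_goals simp only [P, not_and_or, not_not] at ha hb
    · exfalso
      rw [hfi a ha] at hab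
      rcases hb with rfl | rfl
      · rw [hf0] at hab; exact (hcyc _).1 hab.symm
      · rw [hf1] at hab; exact (hcyc _).2.1 hab.symm
    · exfalso
      rw [hfi b hb] at hab
      rcases ha with rfl | rfl
      · rw [hf0] at hab; exact (hcyc _).1 hab
      · rw [hf1] at hab; exact (hcyc _).2.1 hab
    · rcases ha with rfl | rfl <;> rcases hb with rfl | rfl
      · rfl
      · rw [hf0, hf1] at hab; exact absurd hab huv
      · rw [hf0, hf1] at hab; exact absurd hab.symm huv
      · rfl
  let σ : Perm α := Equiv.ofBijective f (Finite.injective_iff_bijective.mp hinj)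
  refine ⟨σ, ?_⟩
  let K : Subgroup (Perm α) :=
    ((φ.toMonoidHom.eqLocus (MulAut.conjNormal σ : MulAut (alternatingGroup α)).toMonoidHom).map
      (alternatingGroup α).subtype)
  have hK : ∀ w, w ≠ p0 → w ≠ p1 → cyc p0 p1 w ∈ K := by
    intro w h1 h2
    refine ⟨x ⟨w, h1, h2⟩, ?_, rfl⟩
    apply Subtype.ext
    show X ⟨w, h1, h2⟩ = _
    rw [MulEquiv.coe_toMonoidHom, MulAut.conjNormal_apply]
    show _ = σ * cyc p0 p1 w * σ⁻¹
    rw [cyc_conj, show σ p0 = u from hf0, show σ p1 = v from hf1,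
      show σ w = X ⟨w, h1, h2⟩ v from hfi w ⟨h1, h2⟩]
    exact (hcyc _).2.2
  have hall : alternatingGroup α ≤ K := by
    rw [← closure_three_cycles_eq_alternating, Subgroup.closure_le]
    intro a ha
    obtain ⟨z, hz⟩ : ∃ z, a z ≠ z := by
      by_contra! hh
      exact (show a.IsThreeCycle from ha).isCycle.ne_one (Perm.ext hh)
    obtain ⟨n1, n2, hA⟩ := eq_cyc ha hz
    rw [hA]
    exact cyc_mem_closure h01 K hK hz.symm n1 n2
  apply MulEquiv.ext
  intro y
  obtain ⟨y', hy', hyy⟩ := hall y.2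
  obtain rfl : y' = y := Subtype.ext hyy
  exact hy'.symm

end Cfsg.Agent.Lib.AltAut
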